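import Cfsg.Agent.Lib.PermClasses.Weight
import Mathlib.Algebra.Group.Conj
import Mathlib.Data.ZMod.Basic
import Mathlib.Data.Int.GCD
import Mathlib.Analysis.Complex.Exponential

/-!
A subgroup of the symmetric group of degree `d` has at most `4 ^ d` conjugacy classes: the classes of
elements whose order has no prime divisor below `p` are counted by `p`-part and `p'`-part.
-/

set_option autoImplicit false

namespace CfsgLib.PermClasses

open Equiv Finset

theorem finite_conjClasses (G : Type*) [Group G] [Finite G] : Finite (ConjClasses G) :=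
  Finite.of_surjective _ ConjClasses.mk_surjective

/-- All prime divisors of the order of `g` are at least `n`. -/
def GE {G : Type*} [Group G] (n : ℕ) (g : G) : Prop :=
  ∀ q : ℕ, q.Prime → q ∣ orderOf g → n ≤ q

theorem GE.conj {G : Type*} [Group G] {n : ℕ} {g h : G} (hg : GE n g) (hc : IsConj g h) : GE n h := by
  obtain ⟨c, rfl⟩ := isConj_iff.mp hc
  intro q hq hdvd
  exact hg q hq (by rwa [← MulAut.conj_apply, MulEquiv.orderOf_eq] at hdvd)

/-- The number of classes of elements all whose prime divisors are at least `n`. -/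
noncomputable def cnt (n : ℕ) (G : Type*) [Group G] : ℕ :=
  Nat.card {C : ConjClasses G // ∀ g : G, ConjClasses.mk g = C → GE n g}

theorem cnt_two (G : Type*) [Group G] : cnt 2 G = Nat.card (ConjClasses G) :=
  Nat.card_congr (Equiv.subtypeUnivEquiv fun _ _ _ q hq _ => hq.two_le)

/-- Elements of order prime to `p` with the same image modulo an abelian normal `p`-subgroup are
conjugate. -/
theorem exists_conj_of_map_eq {C D : Type*} [Group C] [Group D] [Finite C] (ψ : C →* D) {N : ℕ}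
    (hcomm : ∀ a ∈ ψ.ker, ∀ b ∈ ψ.ker, a * b = b * a) (hexp : ∀ a ∈ ψ.ker, a ^ N = 1)
    {y z : C} (h : ψ y = ψ z) (hy : (orderOf y).Coprime N) (hz : (orderOf z).Coprime N) :
    IsConj y z := by
  let : CommGroup ψ.ker := { (inferInstance : Group ψ.ker) with
    mul_comm := fun a b => Subtype.ext (hcomm a.1 a.2 b.1 b.2) }
  let φ : MulAut ψ.ker := MulAut.conjNormal y
  set M := orderOf y * orderOf z with hM
  have hMN : M.Coprime N := Nat.Coprime.mul_left hy hz
  set k : C := z * y⁻¹ with hk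
  have hky : k * y = z := inv_mul_cancel_right z y
  have hkK : k ∈ ψ.ker := by rw [MonoidHom.mem_ker, hk, map_mul, map_inv, h, mul_inv_cancel]
  have hyM : y ^ M = 1 := by rw [hM, pow_mul, pow_orderOf_eq_one, one_pow]
  have hzM : z ^ M = 1 := by rw [hM, mul_comm, pow_mul, pow_orderOf_eq_one, one_pow]
  let s : ℕ → ψ.ker := fun i => ⟨z ^ i * (y ^ i)⁻¹, by
    rw [MonoidHom.mem_ker, map_mul, map_inv, map_pow, map_pow, h, mul_inv_cancel]⟩
  have hs : ∀ i, s (i + 1) = ⟨k, hkK⟩ * φ (s i) := fun i => Subtype.ext (by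
    show z ^ (i + 1) * (y ^ (i + 1))⁻¹ = k * (y * (z ^ i * (y ^ i)⁻¹) * y⁻¹)
    rw [← hky, pow_succ', pow_succ y i, mul_inv_rev]
    have : y⁻¹ * (y ^ i)⁻¹ = (y ^ i)⁻¹ * y⁻¹ := by rw [← mul_inv_rev, ← mul_inv_rev, pow_mul_comm']
    rw [this]; group)
  have hsM : s M = 1 := Subtype.ext (by show z ^ M * (y ^ M)⁻¹ = 1; rw [hyM, hzM, inv_one, one_mul])
  have hs0 : s 0 = 1 := Subtype.ext (by show z ^ 0 * (y ^ 0)⁻¹ = 1; simp)
  set a₀ := ∏ i ∈ range M, s i with ha₀
  have hshift : ∏ i ∈ range M, s (i + 1) = a₀ := by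
    have h1 := prod_range_succ' s M
    rw [prod_range_succ, hsM, mul_one, hs0, mul_one] at h1
    exact h1.symm
  have hφ : ⟨k, hkK⟩ ^ M * φ a₀ = a₀ := by
    conv_rhs => rw [← hshift]
    rw [Finset.prod_congr rfl (fun i _ => hs i), Finset.prod_mul_distrib, prod_const, card_range,
      ha₀, map_prod]
  obtain ⟨c, hc⟩ : ∃ c : ℕ, c * M ≡ 1 [MOD N] := by
    rcases Nat.eq_zero_or_pos N with h0 | hN
    · subst h0
      rw [Nat.coprime_zero_right] at hMN
      exact ⟨1, by rw [hMN]⟩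
    · have : NeZero N := ⟨hN.ne'⟩
      refine ⟨((M : ZMod N)⁻¹).val, (ZMod.natCast_eq_natCast_iff _ _ _).mp ?_⟩
      rw [Nat.cast_mul, ZMod.natCast_zmod_val, mul_comm, Nat.cast_one, ZMod.coe_mul_inv_eq_one M hMN]
  have hkc : (⟨k, hkK⟩ : ψ.ker) ^ (c * M) = ⟨k, hkK⟩ := by
    conv_rhs => rw [← pow_one (⟨k, hkK⟩ : ψ.ker)]
    have he : (⟨k, hkK⟩ : ψ.ker) ^ N = 1 := Subtype.ext (hexp k hkK)
    rw [← Nat.div_add_mod (c * M) N, pow_add, pow_mul, he, one_pow, one_mul, hc,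
      pow_eq_pow_mod 1 he]
  have hfin : (⟨k, hkK⟩ : ψ.ker) * φ (a₀ ^ c) = a₀ ^ c := by
    rw [map_pow, ← hkc, mul_comm c M, pow_mul, ← mul_pow, hφ]
  rw [isConj_iff]
  refine ⟨(a₀ ^ c : ψ.ker).1, ?_⟩
  have h2 := congrArg Subtype.val hfin
  change k * (y * (a₀ ^ c : ψ.ker).1 * y⁻¹) = (a₀ ^ c : ψ.ker).1 at h2
  rw [← hky]
  generalize (a₀ ^ c : ψ.ker).1 = u at h2 ⊢
  calc u * y * u⁻¹ = (k * (y * u * y⁻¹)) * y * u⁻¹ := by rw [h2]
    _ = k * y := by group

/-- The classes of `C` with large prime divisors inject into those of an image with abelian `p`-kernel. -/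
theorem cnt_le_range {C D : Type*} [Group C] [Group D] [Finite C] (ψ : C →* D) {p e n : ℕ}
    (hp : p.Prime) (hpn : p < n)
    (hcomm : ∀ a ∈ ψ.ker, ∀ b ∈ ψ.ker, a * b = b * a) (hexp : ∀ a ∈ ψ.ker, a ^ p ^ e = 1) :
    cnt n C ≤ cnt n ψ.range := by
  have hwd : ∀ c : ConjClasses C, (∀ g, ConjClasses.mk g = c → GE n g) →
      ∀ g, ConjClasses.mk g = ConjClasses.map ψ.rangeRestrict c → GE n g := by
    intro c hc g hg
    obtain ⟨u, rfl⟩ := ConjClasses.mk_surjective c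
    have hu := hc u rfl
    refine GE.conj (g := ψ.rangeRestrict u) ?_ (ConjClasses.mk_eq_mk_iff_isConj.mp hg).symm
    intro q hq hdvd
    exact hu q hq (hdvd.trans (orderOf_map_dvd _ _))
  have : Finite ψ.range := Finite.of_surjective _ ψ.rangeRestrict_surjective
  have := finite_conjClasses ψ.range
  refine Nat.card_le_card_of_injective (fun c => ⟨ConjClasses.map ψ.rangeRestrict c.1, hwd c.1 c.2⟩) ?_
  rintro ⟨c, hc⟩ ⟨d, hd⟩ hcd
  obtain ⟨u, rfl⟩ := ConjClasses.mk_surjective c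
  obtain ⟨v, rfl⟩ := ConjClasses.mk_surjective d
  refine Subtype.ext (ConjClasses.mk_eq_mk_iff_isConj.mpr ?_)
  obtain ⟨w, hw⟩ := isConj_iff.mp (ConjClasses.mk_eq_mk_iff_isConj.mp (congrArg Subtype.val hcd :
    ConjClasses.mk (ψ.rangeRestrict u) = ConjClasses.mk (ψ.rangeRestrict v)))
  obtain ⟨a, rfl⟩ := ψ.rangeRestrict_surjective w
  have hav : IsConj u (a * u * a⁻¹) := isConj_iff.mpr ⟨a, rfl⟩
  refine hav.trans ?_
  have hcop : ∀ g : C, GE n g → (orderOf g).Coprime (p ^ e) := fun g hg =>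
    Nat.Coprime.pow_right _ ((Nat.Prime.coprime_iff_not_dvd hp).mpr
      (fun hdvd => absurd (hg p hp hdvd) (by omega))).symm
  refine exists_conj_of_map_eq ψ hcomm hexp ?_ (hcop _ ((hc u rfl).conj hav)) (hcop _ (hd v rfl))
  rw [map_mul, map_mul, map_inv]
  exact congrArg Subtype.val hw

/-- Classes by `p`-part and `p'`-part. -/
theorem cnt_le_sum {G : Type*} [Group G] [Finite G] {p : ℕ} [hp : Fact p.Prime] (P : Sylow p G)
    [Fintype P] :
    cnt p G ≤ ∑ x : P, cnt (p + 1) (Subgroup.centralizer ({x.1} : Set G)) := by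
  classical
  let S := Σ x : P, {C : ConjClasses (Subgroup.centralizer ({x.1} : Set G)) //
    ∀ g, ConjClasses.mk g = C → GE (p + 1) g}
  have hkey : ∀ c : {C : ConjClasses G // ∀ g, ConjClasses.mk g = C → GE p g}, ∃ s : S,
      ∃ y : Subgroup.centralizer ({s.1.1} : Set G), ConjClasses.mk y = s.2.1 ∧
        ConjClasses.mk (s.1.1 * y.1) = c.1 := by
    rintro ⟨c, hc⟩
    obtain ⟨g, rfl⟩ := ConjClasses.mk_surjective c
    have hg := hc g rfl
    obtain ⟨e, m, hm, hem⟩ := Nat.exists_eq_pow_mul_and_not_dvd (orderOf_pos g).ne' p hp.out.ne_one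
    have hcop : (p ^ e).Coprime m := Nat.Coprime.pow_left _ (hp.out.coprime_iff_not_dvd.mpr hm)
    have hbez := Nat.gcd_eq_gcd_ab (p ^ e) m
    rw [hcop] at hbez
    set x := g ^ ((m : ℤ) * Nat.gcdB (p ^ e) m) with hx
    set y := g ^ (((p ^ e : ℕ) : ℤ) * Nat.gcdA (p ^ e) m) with hy
    have hxy : x * y = g := by rw [hx, hy, ← zpow_add, add_comm, ← hbez, Nat.cast_one, zpow_one]
    have hxp : x ^ p ^ e = 1 := by
      rw [hx, ← zpow_natCast, ← zpow_mul, mul_comm, ← mul_assoc, zpow_mul, ← Nat.cast_mul, ← hem,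
        zpow_natCast, pow_orderOf_eq_one, one_zpow]
    have hym : y ^ m = 1 := by
      rw [hy, ← zpow_natCast, ← zpow_mul, mul_comm, ← mul_assoc, zpow_mul, ← Nat.cast_mul,
        mul_comm m, ← hem, zpow_natCast, pow_orderOf_eq_one, one_zpow]
    obtain ⟨j, hj⟩ := (Nat.dvd_prime_pow hp.out).mp (orderOf_dvd_of_pow_eq_one hxp)
    have hpg : IsPGroup p (Subgroup.zpowers x) :=
      IsPGroup.of_card (n := j) (by rw [Nat.card_zpowers, hj.2])
    obtain ⟨Q, hQ⟩ := hpg.exists_le_sylow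
    obtain ⟨t, ht⟩ := MulAction.exists_smul_eq G Q P
    have hxP : t * x * t⁻¹ ∈ (P : Subgroup G) := by
      rw [← ht]
      exact Subgroup.smul_mem_pointwise_smul x (MulAut.conj t) _ (hQ (Subgroup.mem_zpowers x))
    have hyc : t * y * t⁻¹ ∈ Subgroup.centralizer ({t * x * t⁻¹} : Set G) := by
      rw [Subgroup.mem_centralizer_iff]
      rintro h rfl
      have hc' : x * y = y * x := (Commute.zpow_zpow_self g _ _).eq
      calc (t * x * t⁻¹) * (t * y * t⁻¹) = t * (x * y) * t⁻¹ := by group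
        _ = t * (y * x) * t⁻¹ := by rw [hc']
        _ = (t * y * t⁻¹) * (t * x * t⁻¹) := by group
    have hyGE : ∀ u : Subgroup.centralizer ({t * x * t⁻¹} : Set G),
        ConjClasses.mk u = ConjClasses.mk ⟨_, hyc⟩ → GE (p + 1) u := by
      intro u hu
      refine GE.conj ?_ (ConjClasses.mk_eq_mk_iff_isConj.mp hu).symm
      intro q hq hdvd
      rw [← Subgroup.orderOf_coe] at hdvd
      replace hdvd : q ∣ orderOf (MulAut.conj t y) := hdvd
      rw [MulEquiv.orderOf_eq] at hdvd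
      have hqm : q ∣ m := hdvd.trans (orderOf_dvd_of_pow_eq_one hym)
      have hqg : p ≤ q := hg q hq (hem ▸ hqm.mul_left _)
      rcases lt_or_eq_of_le hqg with h | h
      · exact h
      · exact absurd (h ▸ hqm) hm
    refine ⟨⟨⟨_, hxP⟩, ConjClasses.mk ⟨_, hyc⟩, hyGE⟩, ⟨_, hyc⟩, rfl, ?_⟩
    refine ConjClasses.mk_eq_mk_iff_isConj.mpr (isConj_iff.mpr ⟨t⁻¹, ?_⟩)
    show t⁻¹ * ((t * x * t⁻¹) * (t * y * t⁻¹)) * t⁻¹⁻¹ = g
    conv_rhs => rw [← hxy]
    group
  choose s y hys hc using hkey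
  have key : ∀ sa sb : S, sa = sb → ∀ (ya : Subgroup.centralizer ({sa.1.1} : Set G))
      (yb : Subgroup.centralizer ({sb.1.1} : Set G)), ConjClasses.mk ya = sa.2.1 →
      ConjClasses.mk yb = sb.2.1 → ConjClasses.mk (sa.1.1 * ya.1) = ConjClasses.mk (sb.1.1 * yb.1) := by
    rintro sa _ rfl ya yb hya hyb
    obtain ⟨w, hw⟩ := isConj_iff.mp (ConjClasses.mk_eq_mk_iff_isConj.mp (hya.trans hyb.symm))
    refine ConjClasses.mk_eq_mk_iff_isConj.mpr (isConj_iff.mpr ⟨w.1, ?_⟩)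
    have hwc : w.1 * sa.1.1 = sa.1.1 * w.1 :=
      (Subgroup.mem_centralizer_iff.mp w.2 _ (Set.mem_singleton _)).symm
    rw [← congrArg Subtype.val hw]
    show w.1 * (sa.1.1 * ya.1) * w.1⁻¹ = sa.1.1 * (w.1 * ya.1 * w.1⁻¹)
    rw [← mul_assoc, hwc]
    simp only [mul_assoc]
  have hinj : Function.Injective s := fun a b hab =>
    Subtype.ext ((hc a).symm.trans ((key _ _ hab _ _ (hys a) (hys b)).trans (hc b)))
  have : ∀ x : P, Finite (ConjClasses (Subgroup.centralizer ({x.1} : Set G))) :=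
    fun x => finite_conjClasses _
  refine (Nat.card_le_card_of_injective s hinj).trans (le_of_eq ?_)
  rw [Nat.card_sigma]
  rfl

/-- Raising the least prime. -/
theorem cnt_step {p : ℕ} [hp : Fact p.Prime] {B r : ℝ} (hB : 1 ≤ B) (hr : 1 ≤ r)
    (hr1 : 1 + (p - 1 : ℕ) / B ^ (p - 1) ≤ r ^ (p - 1))
    (hr2 : (p : ℝ) ^ p ≤ (B ^ (p - 1) * r ^ p) ^ (p - 1))
    (Ω : Type) [Finite Ω] (hB' : ∀ (Ω' : Type) [Finite Ω'] (G : Subgroup (Perm Ω')),
      Nat.card Ω' ≤ Nat.card Ω → (cnt (p + 1) G : ℝ) ≤ B ^ Nat.card Ω')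
    (G : Subgroup (Perm Ω)) : (cnt p G : ℝ) ≤ (B * r) ^ Nat.card Ω := by
  classical
  obtain ⟨P⟩ : Nonempty (Sylow p G) := inferInstance
  let : Fintype P := Fintype.ofFinite P
  have hterm : ∀ x : P, (cnt (p + 1) (Subgroup.centralizer ({x.1} : Set G)) : ℝ) ≤ B ^ cyc x.1.1 := by
    intro x
    let Q := MulAction.orbitRel.Quotient (Subgroup.zpowers x.1.1) Ω
    set C := Subgroup.centralizer ({x.1} : Set G) with hC
    have hcm : ∀ (u : C) (n : ℤ) (ω : Ω), u.1.1 ((x.1.1 ^ n) ω) = (x.1.1 ^ n) (u.1.1 ω) := by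
      intro u n ω
      have h1 : u.1 * x.1 = x.1 * u.1 :=
        (Subgroup.mem_centralizer_iff.mp u.2 _ (Set.mem_singleton _)).symm
      have h2 : Commute u.1.1 x.1.1 := congrArg Subtype.val h1
      have h3 := (h2.zpow_right n).eq
      exact congrArg (fun σ : Perm Ω => σ ω) h3
    let act : C → Q → Q := fun u => Quotient.map' (fun ω => u.1.1 ω) fun a b hab => by
      obtain ⟨⟨w, hw⟩, hwa⟩ := hab
      obtain ⟨n, rfl⟩ := Subgroup.mem_zpowers_iff.mp hw
      exact ⟨⟨_, Subgroup.zpow_mem_zpowers _ n⟩, ((hcm u n b).symm.trans (congrArg u.1.1 hwa) : _)⟩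
    let : MulAction C Q :=
      { smul := act
        one_smul := fun q => by obtain ⟨ω, rfl⟩ := Quotient.mk''_surjective q; rfl
        mul_smul := fun u v q => by obtain ⟨ω, rfl⟩ := Quotient.mk''_surjective q; rfl }
    let ψ : C →* Perm Q := MulAction.toPermHom C Q
    have hker : ∀ u ∈ ψ.ker, ∀ ω : Ω, ∃ n : ℤ, u.1.1 ω = (x.1.1 ^ n) ω := by
      intro u hu ω
      have h1 : (Quotient.mk'' (u.1.1 ω) : Q) = Quotient.mk'' ω :=
        congrArg (fun σ : Perm Q => σ (Quotient.mk'' ω)) (MonoidHom.mem_ker.mp hu)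
      obtain ⟨⟨w, hw⟩, hwa⟩ := Quotient.eq''.mp h1
      obtain ⟨n, rfl⟩ := Subgroup.mem_zpowers_iff.mp hw
      exact ⟨n, hwa.symm⟩
    have hcomm : ∀ a ∈ ψ.ker, ∀ b ∈ ψ.ker, a * b = b * a := by
      intro a ha b hb
      refine Subtype.ext (Subtype.ext (Equiv.ext fun ω => ?_))
      obtain ⟨i, hi⟩ := hker a ha ω
      obtain ⟨j, hj⟩ := hker b hb ω
      show a.1.1 (b.1.1 ω) = b.1.1 (a.1.1 ω)
      rw [hj, hcm a, hi, hcm b i ω, hj, ← Perm.mul_apply, ← Perm.mul_apply, ← zpow_add, ← zpow_add,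
        add_comm]
    obtain ⟨e, he⟩ := IsPGroup.iff_orderOf.mp P.isPGroup' x
    have hxe : x.1.1 ^ p ^ e = 1 := by
      have h : x ^ p ^ e = 1 := he ▸ pow_orderOf_eq_one x
      exact congrArg (fun u : P => u.1.1) h
    have hexp : ∀ a ∈ ψ.ker, a ^ p ^ e = 1 := by
      intro a ha
      refine Subtype.ext (Subtype.ext (Equiv.ext fun ω => ?_))
      obtain ⟨n, hn⟩ := hker a ha ω
      have hiter : ∀ k : ℕ, (a.1.1 ^ k) ω = ((x.1.1 ^ n) ^ k) ω := by
        intro k
        induction k with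
        | zero => rfl
        | succ k ih =>
          rw [pow_succ', Perm.mul_apply, ih, ← zpow_natCast (x.1.1 ^ n), ← zpow_mul, hcm a, hn,
            pow_succ, Perm.mul_apply, ← zpow_natCast (x.1.1 ^ n), ← zpow_mul]
      show (a.1.1 ^ p ^ e) ω = ω
      rw [hiter, ← zpow_natCast, ← zpow_mul, mul_comm, zpow_mul, zpow_natCast, hxe, one_zpow,
        Perm.one_apply]
    calc (cnt (p + 1) C : ℝ) ≤ (cnt (p + 1) ψ.range : ℝ) := by
          exact_mod_cast cnt_le_range ψ hp.out (Nat.lt_succ_self p) hcomm hexp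
      _ ≤ B ^ Nat.card Q := hB' Q ψ.range (cyc_le_card x.1.1)
      _ = B ^ cyc x.1.1 := rfl
  let P' : Subgroup (Perm Ω) := (P : Subgroup G).map G.subtype
  have hP' : IsPGroup p P' := P.isPGroup'.map _
  let : Fintype P' := Fintype.ofFinite P'
  have hw : ∑ x : P, B ^ cyc x.1.1 = weight P' B := by
    rw [weight, finsum_eq_sum_of_fintype]
    exact Fintype.sum_equiv ((P : Subgroup G).equivMapOfInjective G.subtype G.subtype_injective).toEquiv
      _ _ fun _ => rfl
  calc (cnt p G : ℝ) ≤ ((∑ x : P, cnt (p + 1) (Subgroup.centralizer ({x.1} : Set G)) : ℕ) : ℝ) := by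
        exact_mod_cast cnt_le_sum P
    _ ≤ ∑ x : P, B ^ cyc x.1.1 := by rw [Nat.cast_sum]; exact Finset.sum_le_sum fun x _ => hterm x
    _ = weight P' B := hw
    _ ≤ B ^ Nat.card Ω * r ^ (Nat.card Ω - 1) := weight_le hB hr hr1 hr2 _ Ω rfl P' hP'
    _ ≤ B ^ Nat.card Ω * r ^ Nat.card Ω :=
        mul_le_mul_of_nonneg_left (pow_le_pow_right₀ hr (Nat.sub_le _ _)) (by positivity)
    _ = _ := by rw [mul_pow]

theorem cnt_le_of_not_prime {n : ℕ} (hn : ¬ n.Prime) (G : Type*) [Group G] [Finite G] :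
    cnt n G ≤ cnt (n + 1) G := by
  have := finite_conjClasses G
  refine Nat.card_le_card_of_injective (fun c => ⟨c.1, fun g hg q hq hdvd => ?_⟩) fun a b hab =>
    Subtype.ext (congrArg Subtype.val hab :)
  rcases lt_or_eq_of_le (c.2 g hg q hq hdvd) with h | h
  · exact h
  · exact absurd (h ▸ hq) hn

theorem cnt_le_one {Ω : Type} [Finite Ω] (G : Subgroup (Perm Ω)) {n : ℕ} (hn : Nat.card Ω < n) :
    cnt n G ≤ 1 := by
  classical
  let : Fintype Ω := Fintype.ofFinite Ω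
  have hone : ∀ g : G, GE n g → g = 1 := by
    intro g hg
    rw [← orderOf_eq_one_iff]
    by_contra h
    obtain ⟨q, hq, hdvd⟩ := Nat.exists_prime_and_dvd h
    have h1 : orderOf g ∣ (Fintype.card Ω).factorial := by
      rw [← Fintype.card_perm, ← Subgroup.orderOf_coe]
      exact orderOf_dvd_card
    have h2 := hg q hq hdvd
    have h3 := hq.dvd_factorial.mp (hdvd.trans h1)
    rw [← Nat.card_eq_fintype_card] at h3
    omega
  refine (Nat.card_le_card_of_injective (β := Unit) (fun _ => ()) ?_).trans (by simp)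
  rintro ⟨c, hc⟩ ⟨d, hd⟩ -
  obtain ⟨u, rfl⟩ := ConjClasses.mk_surjective c
  obtain ⟨v, rfl⟩ := ConjClasses.mk_surjective d
  exact Subtype.ext ((congrArg ConjClasses.mk (hone u (hc u rfl))).trans
    (congrArg ConjClasses.mk (hone v (hd v rfl))).symm)

theorem pow_self_le_two_pow {p : ℕ} (hp : 5 ≤ p) : p ^ p ≤ 2 ^ ((p - 1) * (p - 1)) := by
  obtain ⟨u, rfl⟩ : ∃ u, p = u + 5 := ⟨p - 5, by omega⟩
  have h : ∀ u : ℕ, u + 5 ≤ 2 ^ (u + 3) := by
    intro u
    induction u with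
    | zero => norm_num
    | succ u ih => rw [pow_succ 2 (u + 3)]; omega
  calc (u + 5) ^ (u + 5) ≤ (2 ^ (u + 3)) ^ (u + 5) := Nat.pow_le_pow_left (h u) _
    _ = 2 ^ ((u + 3) * (u + 5)) := by rw [← pow_mul]
    _ ≤ _ := Nat.pow_le_pow_right (by norm_num) (by
      show (u + 3) * (u + 5) ≤ (u + 4) * (u + 4)
      nlinarith)

/-- The bound for primes at least `5`. -/
theorem cnt_five_le : ∀ (j n : ℕ), 5 ≤ n → ∀ (Ω : Type) [Finite Ω] (G : Subgroup (Perm Ω)),
    Nat.card Ω < n + j → (cnt n G : ℝ) ≤ (2 * Real.exp ((1 / 2) ^ (n - 2))) ^ Nat.card Ω := by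
  intro j
  induction j with
  | zero =>
    intro n hn Ω _ G hd
    refine le_trans (by exact_mod_cast cnt_le_one G (by omega)) (one_le_pow₀ ?_)
    nlinarith [Real.add_one_le_exp ((1 / 2 : ℝ) ^ (n - 2)), pow_nonneg (by norm_num : (0 : ℝ) ≤ 1 / 2) (n - 2)]
  | succ j ih =>
    intro n hn Ω _ G hd
    set t : ℝ := (1 / 2) ^ (n - 1) with ht
    have ht0 : 0 ≤ t := by positivity
    have hsplit : (2 * Real.exp ((1 / 2) ^ (n - 2))) = 2 * Real.exp t * Real.exp t := by
      rw [mul_assoc, ← Real.exp_add, ht, show n - 1 = (n - 2) + 1 by omega, pow_succ]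
      ring_nf
    have hB2 : 2 ≤ 2 * Real.exp t := by nlinarith [Real.add_one_le_exp t]
    have hnext : ∀ (Ω' : Type) [Finite Ω'] (H : Subgroup (Perm Ω')), Nat.card Ω' < n + (j + 1) →
        (cnt (n + 1) H : ℝ) ≤ (2 * Real.exp t) ^ Nat.card Ω' := by
      intro Ω' _ H h
      have := ih (n + 1) (by omega) Ω' H (by omega)
      rwa [show n + 1 - 2 = n - 1 by omega] at this
    by_cases hp : n.Prime
    · have := Fact.mk hp
      have hr1 : 1 + (n - 1 : ℕ) / (2 * Real.exp t) ^ (n - 1) ≤ Real.exp t ^ (n - 1) := by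
        rw [← Real.exp_nat_mul]
        refine le_trans ?_ (Real.add_one_le_exp _)
        rw [add_comm _ (1 : ℝ), add_le_add_iff_left]
        rw [ht, div_eq_mul_inv, ← inv_pow]
        refine mul_le_mul_of_nonneg_left (pow_le_pow_left₀ (by positivity) ?_ _) (by positivity)
        rw [one_div]
        exact inv_anti₀ (by norm_num) (by simpa [ht, one_div] using hB2)
      have hr2 : (n : ℝ) ^ n ≤ ((2 * Real.exp t) ^ (n - 1) * Real.exp t ^ n) ^ (n - 1) := by
        refine le_trans (b := ((2 : ℝ) ^ (n - 1)) ^ (n - 1)) ?_ (pow_le_pow_left₀ (by positivity) ?_ _)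
        · rw [← pow_mul]; exact_mod_cast pow_self_le_two_pow hn
        · calc (2 : ℝ) ^ (n - 1) ≤ (2 * Real.exp t) ^ (n - 1) := pow_le_pow_left₀ (by norm_num) hB2 _
            _ ≤ _ := le_mul_of_one_le_right (by positivity) (one_le_pow₀ (Real.one_le_exp ht0))
      rw [hsplit]
      exact cnt_step (by linarith) (Real.one_le_exp ht0) hr1 hr2 Ω
        (fun Ω' _ H h => hnext Ω' H (by omega)) G
    · refine le_trans (by exact_mod_cast cnt_le_of_not_prime hp G) ((hnext Ω G hd).trans ?_)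
      rw [hsplit]
      exact pow_le_pow_left₀ (by positivity) (le_mul_of_one_le_right (by positivity) (Real.one_le_exp ht0)) _

/-- A subgroup of the symmetric group of degree `d` has at most `4 ^ d` classes. -/
theorem card_conjClasses_le {Ω : Type} [Finite Ω] (G : Subgroup (Perm Ω)) :
    (Nat.card (ConjClasses G) : ℝ) ≤ 4 ^ Nat.card Ω := by
  have h5 : ∀ (Ω' : Type) [Finite Ω'] (H : Subgroup (Perm Ω')),
      (cnt 5 H : ℝ) ≤ (16 / 7) ^ Nat.card Ω' := by
    intro Ω' _ H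
    refine (cnt_five_le (Nat.card Ω') 5 le_rfl Ω' H (by omega)).trans (pow_le_pow_left₀ (by positivity) ?_ _)
    have h := Real.exp_bound_div_one_sub_of_interval (x := 1 / 8) (by norm_num) (by norm_num)
    norm_num at h ⊢
    linarith
  have h4 : ∀ (Ω' : Type) [Finite Ω'] (H : Subgroup (Perm Ω')),
      (cnt 4 H : ℝ) ≤ (16 / 7) ^ Nat.card Ω' := fun Ω' _ H =>
    le_trans (by exact_mod_cast cnt_le_of_not_prime (n := 4) (by decide) H) (h5 Ω' H)
  have h3 : ∀ (Ω' : Type) [Finite Ω'] (H : Subgroup (Perm Ω')),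
      (cnt 3 H : ℝ) ≤ (20 / 7) ^ Nat.card Ω' := by
    intro Ω' _ H
    have := Fact.mk Nat.prime_three
    refine (cnt_step (B := 16 / 7) (r := 5 / 4) (by norm_num) (by norm_num) (by norm_num) (by norm_num)
      Ω' (fun Ω'' _ K _ => h4 Ω'' K) H).trans (le_of_eq ?_)
    norm_num
  have := Fact.mk Nat.prime_two
  rw [← cnt_two]
  refine (cnt_step (B := 20 / 7) (r := 7 / 5) (by norm_num) (by norm_num) (by norm_num) (by norm_num)
      Ω (fun Ω'' _ K _ => h3 Ω'' K) G).trans (le_of_eq ?_)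
  norm_num

end CfsgLib.PermClasses
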