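import Mathlib.GroupTheory.Sylow
import Mathlib.GroupTheory.IndexNormal
import Mathlib.Algebra.Order.BigOperators.GroupWithZero.Finset
import Mathlib.GroupTheory.Perm.Basic
import Mathlib.GroupTheory.GroupAction.Basic
import Mathlib.NumberTheory.Padics.PadicVal.Basic
import Mathlib.Data.Real.Basic

/-!
Weighted counts of the orbits of the elements of a permutation `p`-group.
-/

set_option autoImplicit false

namespace CfsgLib.PermClasses

open Equiv Finset

/-- The number of orbits of a permutation (fixed points included). -/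
noncomputable def cyc {Ω : Type} (x : Perm Ω) : ℕ :=
  Nat.card (MulAction.orbitRel.Quotient (Subgroup.zpowers x) Ω)

theorem cyc_one {Ω : Type} : cyc (1 : Perm Ω) = Nat.card Ω := by
  refine (Nat.card_congr (Equiv.ofBijective (Quotient.mk'' : Ω → _) ⟨?_, Quotient.mk''_surjective⟩)).symm
  intro a b hab
  obtain ⟨⟨g, hg⟩, hga⟩ := Quotient.eq''.mp hab
  rw [Subgroup.zpowers_one_eq_bot, Subgroup.mem_bot] at hg
  subst hg
  exact hga.symm

theorem cyc_le_card {Ω : Type} [Finite Ω] (x : Perm Ω) : cyc x ≤ Nat.card Ω :=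
  Nat.card_le_card_of_surjective _ Quotient.mk''_surjective

theorem zpow_apply_mem {Ω : Type} (x : Perm Ω) {ι : Type} (f : Ω → ι) (h : ∀ ω, f (x ω) = f ω)
    (n : ℤ) (ω : Ω) : f ((x ^ n) ω) = f ω := by
  induction n using Int.induction_on generalizing ω with
  | zero => rw [zpow_zero, Perm.one_apply]
  | succ n ih => rw [zpow_add_one, Perm.mul_apply, ih, h]
  | pred n ih =>
    rw [zpow_sub_one, Perm.mul_apply, ih]
    conv_rhs => rw [← Perm.eq_inv_iff_eq.mp (rfl : x⁻¹ ω = x⁻¹ ω)]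
    rw [h]

/-- The restriction to a fibre of an invariant map, as a homomorphism. -/
def fibreHom {Ω ι : Type} (f : Ω → ι) (P : Subgroup (Perm Ω)) (hf : ∀ x ∈ P, ∀ ω, f (x ω) = f ω)
    (i : ι) : P →* Perm {ω // f ω = i} where
  toFun x := x.1.subtypePerm fun ω => by rw [hf x.1 x.2]
  map_one' := Equiv.ext fun _ => rfl
  map_mul' _ _ := Equiv.ext fun _ => rfl

theorem fibreHom_apply {Ω ι : Type} (f : Ω → ι) (P : Subgroup (Perm Ω))
    (hf : ∀ x ∈ P, ∀ ω, f (x ω) = f ω) (i : ι) (x : P) (ω : {ω // f ω = i}) :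
    (fibreHom f P hf i x ω).1 = x.1 ω.1 := rfl

theorem fibreHom_zpow {Ω ι : Type} (f : Ω → ι) (P : Subgroup (Perm Ω))
    (hf : ∀ x ∈ P, ∀ ω, f (x ω) = f ω) (i : ι) (x : P) (n : ℤ) (ω : {ω // f ω = i}) :
    ((fibreHom f P hf i x ^ n) ω).1 = (x.1 ^ n) ω.1 := by
  rw [← map_zpow, fibreHom_apply, Subgroup.coe_zpow]

/-- The orbits of `x` are those of its restrictions to the fibres. -/
theorem cyc_eq_sum {Ω ι : Type} [Finite Ω] [Fintype ι] (f : Ω → ι) (P : Subgroup (Perm Ω))
    (hf : ∀ x ∈ P, ∀ ω, f (x ω) = f ω) (x : P) :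
    cyc x.1 = ∑ i, cyc (fibreHom f P hf i x) := by
  classical
  have : ∀ i, Finite (MulAction.orbitRel.Quotient (Subgroup.zpowers (fibreHom f P hf i x)) {ω // f ω = i}) :=
    fun i => inferInstance
  let φ : (Σ i, MulAction.orbitRel.Quotient (Subgroup.zpowers (fibreHom f P hf i x)) {ω // f ω = i}) →
      MulAction.orbitRel.Quotient (Subgroup.zpowers x.1) Ω :=
    fun s => Quotient.liftOn' s.2 (fun ω => Quotient.mk'' ω.1) fun a b hab => by
      obtain ⟨⟨g, hg⟩, hga⟩ := hab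
      obtain ⟨n, rfl⟩ := Subgroup.mem_zpowers_iff.mp hg
      refine Quotient.sound' ⟨⟨x.1 ^ n, Subgroup.zpow_mem_zpowers _ n⟩, ?_⟩
      show (x.1 ^ n) b.1 = a.1
      rw [← fibreHom_zpow f P hf s.1 x n b]
      exact congrArg Subtype.val hga
  have hφ : Function.Bijective φ := by
    constructor
    · rintro ⟨i, a⟩ ⟨j, b⟩ hab
      obtain ⟨a, rfl⟩ := Quotient.mk''_surjective a
      obtain ⟨b, rfl⟩ := Quotient.mk''_surjective b
      obtain ⟨⟨g, hg⟩, hga⟩ := Quotient.eq''.mp hab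
      obtain ⟨n, rfl⟩ := Subgroup.mem_zpowers_iff.mp hg
      have hga' : (x.1 ^ n) b.1 = a.1 := hga
      obtain rfl : i = j := by
        have := zpow_apply_mem x.1 f (hf x.1 x.2) n b.1
        rw [hga', a.2, b.2] at this
        exact this
      refine congrArg (Sigma.mk i) (Quotient.sound' ⟨⟨_, Subgroup.zpow_mem_zpowers _ n⟩, ?_⟩)
      exact Subtype.ext ((fibreHom_zpow f P hf i x n b).trans hga')
    · intro q
      obtain ⟨ω, rfl⟩ := Quotient.mk''_surjective q
      exact ⟨⟨f ω, Quotient.mk'' ⟨ω, rfl⟩⟩, rfl⟩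
  unfold cyc
  rw [← Nat.card_congr (Equiv.ofBijective φ hφ), Nat.card_sigma]

/-- The sum of `B ^ (number of orbits)` over a group of permutations. -/
noncomputable def weight {Ω : Type} [Finite Ω] (P : Subgroup (Perm Ω)) (B : ℝ) : ℝ :=
  ∑ᶠ x : P, B ^ cyc x.1

theorem weight_bot {Ω : Type} [Finite Ω] (B : ℝ) :
    weight (⊥ : Subgroup (Perm Ω)) B = B ^ Nat.card Ω := by
  rw [weight, finsum_unique]
  show B ^ cyc (1 : Perm Ω) = _
  rw [cyc_one]

theorem weight_nonneg {Ω : Type} [Finite Ω] (P : Subgroup (Perm Ω)) (B : ℝ) (hB : 0 ≤ B) :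
    0 ≤ weight P B := finsum_nonneg fun _ => pow_nonneg hB _

/-- The weighted count is at most the product of those of the fibres. -/
theorem weight_le_prod {Ω ι : Type} [Finite Ω] [Fintype ι] (f : Ω → ι) (P : Subgroup (Perm Ω))
    (hf : ∀ x ∈ P, ∀ ω, f (x ω) = f ω) (B : ℝ) (hB : 0 ≤ B) :
    weight P B ≤ ∏ i, weight (fibreHom f P hf i).range B := by
  classical
  let : Fintype P := Fintype.ofFinite P
  let : ∀ i, Fintype (fibreHom f P hf i).range := fun i => Fintype.ofFinite _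
  simp only [weight, finsum_eq_sum_of_fintype]
  rw [Fintype.prod_sum (fun i (z : (fibreHom f P hf i).range) => B ^ cyc z.1)]
  let Φ : P → ∀ i, (fibreHom f P hf i).range := fun x i => ⟨fibreHom f P hf i x, ⟨x, rfl⟩⟩
  have hΦ : Function.Injective Φ := by
    intro x y hxy
    refine Subtype.ext (Equiv.ext fun ω => ?_)
    have h := congrArg (fun φ : ∀ i, (fibreHom f P hf i).range => ((φ (f ω)).1 ⟨ω, rfl⟩).1) hxy
    exact h
  have hterm : ∀ x : P, B ^ cyc x.1 = ∏ i, B ^ cyc (Φ x i).1 := fun x => by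
    rw [Finset.prod_pow_eq_pow_sum, cyc_eq_sum f P hf x]
  simp only [hterm]
  rw [← Finset.sum_image (f := fun φ : ∀ i, (fibreHom f P hf i).range => ∏ i, B ^ cyc (φ i).1)
    (fun x _ y _ h => hΦ h)]
  exact Finset.sum_le_sum_of_subset_of_nonneg (Finset.subset_univ _)
    fun φ _ _ => Finset.prod_nonneg fun i _ => pow_nonneg hB _

/-- The order of a permutation `p`-group. -/
theorem card_bound {Ω : Type} [Finite Ω] {p : ℕ} [hp : Fact p.Prime] (P : Subgroup (Perm Ω))
    {a : ℕ} (ha : Nat.card P = p ^ a) (hd : 0 < Nat.card Ω) : (p - 1) * a ≤ Nat.card Ω - 1 := by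
  classical
  let : Fintype Ω := Fintype.ofFinite Ω
  have hdvd : p ^ a ∣ (Nat.card Ω).factorial := by
    rw [← ha, Nat.card_eq_fintype_card (α := Ω), ← Fintype.card_perm, ← Nat.card_eq_fintype_card]
    exact Subgroup.card_subgroup_dvd_card P
  have h1 : a ≤ padicValNat p (Nat.card Ω).factorial :=
    (padicValNat_dvd_iff_le (Nat.factorial_ne_zero _)).mp hdvd
  have h2 := sub_one_mul_padicValNat_factorial (p := p) (Nat.card Ω)
  have h3 : 0 < (p.digits (Nat.card Ω)).sum := by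
    rw [Nat.pos_iff_ne_zero]
    intro h
    have hall := List.sum_eq_zero_iff.mp h
    have := Nat.ofDigits_digits p (Nat.card Ω)
    have hne : p.digits (Nat.card Ω) ≠ [] := Nat.digits_ne_nil_iff_ne_zero.mpr hd.ne'
    exact Nat.getLast_digit_ne_zero p hd.ne' (hall _ (List.getLast_mem hne))
  have h4 := Nat.mul_le_mul_left (p - 1) h1
  omega

/-- `Σ B ^ (orbits) ≤ B ^ d r ^ (d - 1)` for a `p`-group of degree `d`. -/
theorem weight_le {p : ℕ} [hp : Fact p.Prime] {B r : ℝ} (hB : 1 ≤ B) (hr : 1 ≤ r)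
    (hr1 : 1 + (p - 1 : ℕ) / B ^ (p - 1) ≤ r ^ (p - 1))
    (hr2 : (p : ℝ) ^ p ≤ (B ^ (p - 1) * r ^ p) ^ (p - 1)) :
    ∀ (d : ℕ) (Ω : Type) [Finite Ω], Nat.card Ω = d → ∀ P : Subgroup (Perm Ω), IsPGroup p P →
      weight P B ≤ B ^ d * r ^ (d - 1) := by
  intro d
  induction d using Nat.strong_induction_on with
  | _ d ih =>
  intro Ω _ hd P hP
  classical
  have hB0 : 0 ≤ B := zero_le_one.trans hB
  have hr0 : 0 ≤ r := zero_le_one.trans hr
  rcases le_or_gt d 1 with h1 | h1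
  · have : Subsingleton Ω := Finite.card_le_one_iff_subsingleton.mp (by omega)
    have hbot : P = ⊥ := (Subgroup.eq_bot_iff_forall P).mpr fun x _ => Equiv.ext fun _ => Subsingleton.elim _ _
    rw [hbot, weight_bot, hd, Nat.sub_eq_zero_of_le h1, pow_zero, mul_one]
  -- splitting along an invariant map with at least two non-empty fibres
  have split : ∀ {ι : Type} [Fintype ι] (f : Ω → ι) (K : Subgroup (Perm Ω)), IsPGroup p K →
      Function.Surjective f → 1 < Fintype.card ι → (∀ x ∈ K, ∀ ω, f (x ω) = f ω) →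
      weight K B ≤ B ^ d * r ^ (d - Fintype.card ι) := by
    intro ι _ f K hK hsurj hι hf
    have hsum : ∑ i, Nat.card {ω // f ω = i} = d := by
      rw [← Nat.card_sigma, Nat.card_congr (Equiv.sigmaFiberEquiv f), hd]
    have hpos : ∀ i, 0 < Nat.card {ω // f ω = i} := fun i =>
      have : Nonempty {ω // f ω = i} := let ⟨ω, hω⟩ := hsurj i; ⟨⟨ω, hω⟩⟩
      Nat.card_pos
    have hlt : ∀ i, Nat.card {ω // f ω = i} < d := by
      intro i
      obtain ⟨j, hj⟩ := Fintype.exists_ne_of_one_lt_card hι i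
      rw [← hsum]
      exact Finset.single_lt_sum (f := fun i => Nat.card {ω // f ω = i}) hj (Finset.mem_univ i) (Finset.mem_univ j) (hpos j)
        fun k _ _ => Nat.zero_le _
    calc weight K B ≤ ∏ i, weight (fibreHom f K hf i).range B := weight_le_prod f K hf B hB0
      _ ≤ ∏ i, B ^ Nat.card {ω // f ω = i} * r ^ (Nat.card {ω // f ω = i} - 1) :=
          Finset.prod_le_prod (fun i _ => weight_nonneg _ B hB0) fun i _ =>
            ih _ (hlt i) _ rfl _ (hK.of_surjective _ (MonoidHom.rangeRestrict_surjective _))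
      _ = _ := by
          rw [Finset.prod_mul_distrib, Finset.prod_pow_eq_pow_sum, Finset.prod_pow_eq_pow_sum, hsum,
            Finset.sum_tsub_distrib _ (fun i _ => hpos i), hsum, Finset.sum_const, smul_eq_mul,
            mul_one, Finset.card_univ]
  -- the orbits
  let O := MulAction.orbitRel.Quotient P Ω
  let : Fintype O := Fintype.ofFinite O
  have hΩ : Nonempty Ω := (Nat.card_pos_iff.mp (by omega)).1
  obtain ⟨ω₀⟩ := hΩ
  by_cases hO : 1 < Fintype.card O
  · refine (split (fun ω => (Quotient.mk'' ω : O)) P hP Quotient.mk''_surjective hO fun x hx ω =>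
      Quotient.sound' ⟨⟨x, hx⟩, rfl⟩).trans ?_
    exact mul_le_mul_of_nonneg_left (pow_le_pow_right₀ hr (Nat.sub_le_sub_left hO.le d)) (pow_nonneg hB0 _)
  have htrans : ∀ ω, ∃ x : P, x • ω₀ = ω := by
    intro ω
    have : (Quotient.mk'' ω : O) = Quotient.mk'' ω₀ :=
      Fintype.card_le_one_iff.mp (not_lt.mp hO) _ _
    exact Quotient.eq''.mp this
  have : MulAction.IsPretransitive P Ω := ⟨fun a b => by
    obtain ⟨x, rfl⟩ := htrans a; obtain ⟨y, rfl⟩ := htrans b
    exact ⟨y * x⁻¹, by rw [mul_smul, inv_smul_smul]⟩⟩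
  obtain ⟨a, ha⟩ := IsPGroup.iff_card.mp hP
  -- the point stabilizer lies in a normal subgroup of index `p`
  set H := MulAction.stabilizer P ω₀ with hH
  have hidx : Nat.card H * d = p ^ a := by
    rw [← ha, ← H.card_mul_index, hH, MulAction.index_stabilizer_of_transitive, hd]
  obtain ⟨k, hk, hdk⟩ := (Nat.dvd_prime_pow hp.out).mp (hidx ▸ dvd_mul_left d (Nat.card H))
  have hk0 : k ≠ 0 := by rintro rfl; rw [pow_zero] at hdk; omega
  have hHc : Nat.card H = p ^ (a - k) := by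
    have h := hidx
    rw [hdk, ← pow_sub_mul_pow p hk] at h
    exact Nat.eq_of_mul_eq_mul_right (pow_pos hp.out.pos k) h
  obtain ⟨N, hNc, hHN⟩ := Sylow.exists_subgroup_card_pow_prime_le p (n := a - k) (m := a - 1)
    (by rw [ha]; exact pow_dvd_pow p (by omega)) H hHc (by omega)
  have hNi : N.index = p := by
    have h := N.card_mul_index
    have h2 : p ^ (a - 1) * p = p ^ a := by rw [← pow_succ, Nat.sub_add_cancel (by omega)]
    rw [hNc, ha, ← h2] at h
    exact Nat.eq_of_mul_eq_mul_left (pow_pos hp.out.pos _) h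
  have : N.Normal := Subgroup.normal_of_index_eq_minFac_card (H := N) (by
    rw [hNi, ha, hp.out.pow_minFac (by omega)])
  -- the blocks
  choose t ht using htrans
  let f : Ω → P ⧸ N := fun ω => (t ω : P ⧸ N)
  let : Fintype (P ⧸ N) := Fintype.ofFinite _
  have hι : Fintype.card (P ⧸ N) = p := by rw [← Nat.card_eq_fintype_card, ← hNi]; rfl
  have hf : ∀ (x : P) ω, f (x • ω) = (x : P ⧸ N) * f ω := by
    intro x ω
    show ((t (x • ω) : P) : P ⧸ N) = ((x * t ω : P) : P ⧸ N)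
    refine QuotientGroup.eq.mpr (hHN ?_)
    rw [hH, MulAction.mem_stabilizer_iff, mul_smul, mul_smul, ht, inv_smul_eq_iff, ht]
  have hfs : Function.Surjective f := by
    intro q
    obtain ⟨x, rfl⟩ := QuotientGroup.mk_surjective q
    refine ⟨x • ω₀, (hf x ω₀).trans ?_⟩
    have h1 : (t ω₀ : P ⧸ N) = 1 := (QuotientGroup.eq_one_iff _).mpr (hHN (ht ω₀))
    show (x : P ⧸ N) * (t ω₀ : P ⧸ N) = x
    rw [h1, mul_one]
  -- the part inside `N`
  set N' : Subgroup (Perm Ω) := N.map P.subtype with hN'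
  have hN'P : IsPGroup p N' := hP.to_le (Subgroup.map_subtype_le N)
  have hin : weight N' B ≤ B ^ d * r ^ (d - p) := by
    rw [← hι]
    refine split f N' hN'P hfs (hι ▸ hp.out.one_lt) fun x hx ω => ?_
    obtain ⟨y, hy, rfl⟩ := hx
    rw [show P.subtype y ω = y • ω from rfl, hf, (QuotientGroup.eq_one_iff y).mpr hy, one_mul]
  -- the part outside
  set m := p ^ (k - 1) with hm
  have hdm : d = p * m := by rw [hdk, hm, ← pow_succ', Nat.sub_add_cancel (by omega)]
  have hout : ∀ x : P, x ∉ N → cyc x.1 ≤ m := by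
    intro x hx
    -- every orbit of `x` meets every fibre
    have hmeet : ∀ i : P ⧸ N, ∀ q : MulAction.orbitRel.Quotient (Subgroup.zpowers x.1) Ω,
        ∃ ω : {ω // f ω = i}, Quotient.mk'' ω.1 = q := by
      intro i q
      obtain ⟨ω, rfl⟩ := Quotient.mk''_surjective q
      have hx1 : (x : P ⧸ N) ≠ 1 := fun h => hx ((QuotientGroup.eq_one_iff x).mp h)
      have hz : Subgroup.zpowers (x : P ⧸ N) = ⊤ :=
        zpowers_eq_top_of_prime_card (p := p) (hNi ▸ rfl) hx1
      obtain ⟨n, hn⟩ := Subgroup.mem_zpowers_iff.mp (hz ▸ Subgroup.mem_top (i * (f ω)⁻¹))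
      refine ⟨⟨(x ^ n) • ω, ?_⟩, Quotient.sound' ⟨⟨x.1 ^ n, Subgroup.zpow_mem_zpowers _ n⟩, ?_⟩⟩
      · rw [hf, QuotientGroup.mk_zpow, hn, inv_mul_cancel_right]
      · show (x.1 ^ n) ω = ((x ^ n : P) : Perm Ω) ω
        rw [Subgroup.coe_zpow]
    have hle : ∀ i : P ⧸ N, cyc x.1 ≤ Nat.card {ω // f ω = i} := fun i =>
      Nat.card_le_card_of_surjective _ (hmeet i)
    have h := Finset.sum_le_sum (s := Finset.univ) fun i _ => hle i
    rw [Finset.sum_const, Finset.card_univ, hι, smul_eq_mul, ← Nat.card_sigma,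
      Nat.card_congr (Equiv.sigmaFiberEquiv f), hd, hdm] at h
    exact Nat.le_of_mul_le_mul_left h hp.out.pos
  let : Fintype P := Fintype.ofFinite P
  let : Fintype N' := Fintype.ofFinite N'
  have hsplit : weight P B = weight N' B + ∑ x ∈ Finset.univ.filter (fun x : P => x ∉ N), B ^ cyc x.1 := by
    rw [weight, weight, finsum_eq_sum_of_fintype, finsum_eq_sum_of_fintype,
      ← Finset.sum_filter_add_sum_filter_not Finset.univ (fun x : P => x ∈ N)]
    congr 1
    refine Finset.sum_nbij' (fun x => if h : x ∈ N then ⟨x.1, ⟨x, h, rfl⟩⟩ else 1)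
      (fun z => ⟨z.1, Subgroup.map_subtype_le N z.2⟩) ?_ ?_ ?_ ?_ ?_
    · intro x _; exact Finset.mem_univ _
    · intro z _
      obtain ⟨y, hy, hyz⟩ := z.2
      refine Finset.mem_coe.mpr (Finset.mem_filter.mpr ⟨Finset.mem_univ _, ?_⟩)
      have : (⟨z.1, Subgroup.map_subtype_le N z.2⟩ : P) = y := Subtype.ext hyz.symm
      rwa [this]
    · intro x hx; simp only [Finset.mem_coe, Finset.mem_filter] at hx; simp only [dif_pos hx.2]
    · intro z _
      obtain ⟨y, hy, hyz⟩ := z.2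
      have : (⟨z.1, Subgroup.map_subtype_le N z.2⟩ : P) ∈ N := by
        rwa [show (⟨z.1, Subgroup.map_subtype_le N z.2⟩ : P) = y from Subtype.ext hyz.symm]
      simp only [dif_pos this]
    · intro x hx; simp only [Finset.mem_filter] at hx; simp only [dif_pos hx.2]
  have hcard : (Finset.univ.filter (fun x : P => x ∉ N)).card = (p - 1) * p ^ (a - 1) := by
    have h1 := Finset.card_filter_add_card_filter_not (s := (Finset.univ : Finset P)) (fun x => x ∈ N)
    rw [Finset.card_univ, ← Nat.card_eq_fintype_card, ha] at h1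
    have h2 : (Finset.univ.filter (fun x : P => x ∈ N)).card = p ^ (a - 1) := by
      rw [← Fintype.card_subtype, ← Nat.card_eq_fintype_card]; exact hNc
    have h3 : p ^ a = p * p ^ (a - 1) := by rw [← pow_succ', Nat.sub_add_cancel (by omega)]
    rw [h2, h3] at h1
    rw [Nat.sub_mul, one_mul]
    omega
  rw [hsplit]
  have hsum : ∑ x ∈ Finset.univ.filter (fun x : P => x ∉ N), B ^ cyc x.1
      ≤ (((p - 1) * p ^ (a - 1) : ℕ) : ℝ) * B ^ m := by
    rw [← hcard, ← nsmul_eq_mul]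
    exact Finset.sum_le_card_nsmul _ _ _ fun x hx =>
      pow_le_pow_right₀ hB (hout x (Finset.mem_filter.mp hx).2)
  refine (add_le_add hin hsum).trans ?_
  -- arithmetic
  have hab := card_bound P ha (by omega)
  rw [hd, hdm] at hab
  obtain ⟨e, he⟩ : ∃ e, m = e + 1 := ⟨m - 1, by have := pow_pos hp.out.pos (k - 1); omega⟩
  have hbe : (a - 1) * (p - 1) ≤ p * e := by
    rw [he, Nat.mul_succ] at hab
    rw [Nat.mul_comm, Nat.mul_sub, mul_one]
    have := hp.out.two_le
    omega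
  set X : ℝ := B ^ (p - 1) * r ^ p with hX
  have hX0 : 0 ≤ X := by positivity
  have hp1 : (1 : ℝ) ≤ p := by exact_mod_cast hp.out.one_lt.le
  have key : (p : ℝ) ^ (a - 1) ≤ X ^ e := by
    refine (pow_le_pow_iff_left₀ (by positivity) (pow_nonneg hX0 e)
      (show p - 1 ≠ 0 by have := hp.out.two_le; omega)).mp ?_
    calc ((p : ℝ) ^ (a - 1)) ^ (p - 1) = (p : ℝ) ^ ((a - 1) * (p - 1)) := by rw [← pow_mul]
      _ ≤ (p : ℝ) ^ (p * e) := pow_le_pow_right₀ hp1 hbe
      _ = ((p : ℝ) ^ p) ^ e := by rw [pow_mul]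
      _ ≤ (X ^ (p - 1)) ^ e := pow_le_pow_left₀ (by positivity) hr2 e
      _ = (X ^ e) ^ (p - 1) := by rw [← pow_mul, ← pow_mul, Nat.mul_comm]
  have hBp : (0 : ℝ) < B ^ (p - 1) := by positivity
  have hr1' : B ^ (p - 1) + ((p - 1 : ℕ) : ℝ) ≤ B ^ (p - 1) * r ^ (p - 1) := by
    have := mul_le_mul_of_nonneg_left hr1 hBp.le
    rwa [mul_add, mul_one, mul_div_cancel₀ _ hBp.ne'] at this
  have hd1 : d - p = p * e := by rw [hdm, he, Nat.mul_succ]; omega
  have hd2 : d - 1 = p * e + (p - 1) := by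
    rw [hdm, he, Nat.mul_succ]; have := hp.out.two_le; omega
  have hd3 : d = (e + 1) + ((p - 1) + (p - 1) * e) := by
    rw [hdm, he]
    obtain ⟨u, hu⟩ : ∃ u, p = u + 1 := ⟨p - 1, by have := hp.out.two_le; omega⟩
    rw [hu, Nat.add_sub_cancel]; ring
  rw [hd1, hd2, Nat.cast_mul, Nat.cast_pow, he, hd3, pow_add B (e + 1), pow_add B (p - 1),
    pow_mul B (p - 1) e, pow_mul r p e, pow_add r, pow_mul r p e]
  calc B ^ (e + 1) * (B ^ (p - 1) * (B ^ (p - 1)) ^ e) * (r ^ p) ^ e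
        + ((p - 1 : ℕ) : ℝ) * (p : ℝ) ^ (a - 1) * B ^ (e + 1)
      ≤ B ^ (e + 1) * (B ^ (p - 1) * (B ^ (p - 1)) ^ e) * (r ^ p) ^ e
        + ((p - 1 : ℕ) : ℝ) * X ^ e * B ^ (e + 1) := by gcongr
    _ = B ^ (e + 1) * X ^ e * (B ^ (p - 1) + ((p - 1 : ℕ) : ℝ)) := by rw [hX, mul_pow]; ring
    _ ≤ B ^ (e + 1) * X ^ e * (B ^ (p - 1) * r ^ (p - 1)) := by gcongr
    _ = _ := by rw [hX, mul_pow]; ring

end CfsgLib.PermClasses
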